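import Groth.Agent.EssDim.K86.Point

/-!
# Essential dimension and representable morphisms of bounded fibre dimension
-/

set_option autoImplicit false
set_option backward.isDefEq.respectTransparency false
set_option backward.isDefEq.respectTransparency.types false

universe u

open CategoryTheory CategoryTheory.Limits AlgebraicGeometry Opposite EssDim

namespace K86.EssDimPt

variable {k : Type u} [Field k] (𝒳 𝒴 : AlgSt.Cat (Spec (CommRingCat.of k)))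
    [FibCat.IsFibGrpd 𝒳.p] [FibCat.IsFibGrpd 𝒴.p]

theorem edStAt_le (F : 𝒳 ⥤ᵇ 𝒴) (d : ℕ)
    (hF : AlgSt.RepByAlgSpWith
      (AlgSp.LocP @LocallyOfFiniteType ⊓ AlgSp.IsQuasiSeparatedMor ⊓ fun _ _ g => CurvSt.RelDimLE d g) F)
    (L : Type u) [Field L] [Algebra k L] (x : StkCnt.pts 𝒳 L) :
    EssDim.edStAt 𝒳 x ≤ EssDim.edStAt 𝒴 ⟨F.obj x.1, (F.w_obj x.1).trans x.2⟩ + d := by
  have key : ∀ K : {K : IntermediateField k L // Descends (Gerb.isoClPsh 𝒴)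
      (Quot.mk (Gerb.IsoRel 𝒴 (SGA7.pt (K := k) L)) ⟨F.obj x.1, (F.w_obj x.1).trans x.2⟩) K},
      edStAt 𝒳 x ≤ Cardinal.toENat (Algebra.trdeg k K.1) + d := by
    rintro ⟨K, hK⟩
    rw [descends_isoCl_iff] at hK
    obtain ⟨t, b, hb⟩ := hK
    obtain ⟨W, R, ⟨h1, h2⟩, h3⟩ := K862.exists_fRep hF t
    obtain ⟨K', w', hw', hd⟩ := exists_descent K d W R.π h1 h2 h3 (R.sec (resPt K.val) x b hb)
      (R.sec_π _ _ _ _)
    refine (edAt_le_of_descends (K := K') ?_).trans hd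
    rw [descends_isoCl_iff]
    obtain ⟨g', x', b', hb', rfl⟩ := R.sec_surj w'
    have hc := Gerb.pullHom_isHomLift 𝒳 x'.1 (resPt K'.val ≫ eqToHom x'.2.symm)
    let x'' := Gerb.pullFib 𝒳 (resPt K'.val) x'
    let c : x''.1 ⟶ x'.1 := Gerb.pullHom 𝒳 x'.1 (resPt K'.val ≫ eqToHom x'.2.symm)
    have hc' : 𝒳.p.IsHomLift (resPt K'.val) c :=
      (IsHomLift.lift_comp_eqToHom_iff 𝒳.p (resPt K'.val) _ x'.2.symm).mp hc
    have hFc : 𝒴.p.IsHomLift (resPt K'.val) (F.map c) :=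
      BasedFunctor.preserves_isHomLift F (resPt K'.val) c
    rw [R.sec_map (resPt K'.val) g' x'' x' c b' hc' hb' (IsHomLift.comp 𝒴.p _ _ _ _)] at hw'
    obtain ⟨θ, -⟩ := (R.sec_eq_iff _ _ _ _ _ _ _ _).mp hw'.symm
    refine ⟨x', θ.1 ≫ c, ?_⟩
    have hθ : 𝒳.p.IsHomLift (𝟙 _) θ.1 := θ.2
    exact IsHomLift.comp_lift_id_left 𝒳.p (resPt K'.val) c θ.1
  change _ ≤ (⨅ K : {K : IntermediateField k L // _}, Cardinal.toENat (Algebra.trdeg k K.1)) + (d : ℕ∞)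
  rw [ENat.iInf_add]
  exact le_iInf key

theorem edSt_le (F : 𝒳 ⥤ᵇ 𝒴) (d : ℕ)
    (hF : AlgSt.RepByAlgSpWith
      (AlgSp.LocP @LocallyOfFiniteType ⊓ AlgSp.IsQuasiSeparatedMor ⊓ fun _ _ g => CurvSt.RelDimLE d g) F) :
    EssDim.edSt 𝒳 ≤ EssDim.edSt 𝒴 + ((d : ℕ) : WithBot ℕ∞) := by
  refine iSup_le fun L => iSup_le fun _ => iSup_le fun _ => iSup_le fun ξ => ?_
  induction ξ using Quot.ind with
  | mk x =>
    have h1 := edStAt_le 𝒳 𝒴 F d hF L x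
    have h2 : (EssDim.edStAt 𝒴 ⟨F.obj x.1, (F.w_obj x.1).trans x.2⟩ : WithBot ℕ∞) ≤ edSt 𝒴 :=
      edAt_le_ed _
    calc ((EssDim.edStAt 𝒳 x : ℕ∞) : WithBot ℕ∞) ≤
          ((EssDim.edStAt 𝒴 ⟨F.obj x.1, (F.w_obj x.1).trans x.2⟩ + d : ℕ∞) : WithBot ℕ∞) := by
            exact_mod_cast h1
      _ = (EssDim.edStAt 𝒴 ⟨F.obj x.1, (F.w_obj x.1).trans x.2⟩ : WithBot ℕ∞) + ((d : ℕ) : WithBot ℕ∞) := by
            push_cast; rfl
      _ ≤ _ := by gcongr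

end K86.EssDimPt
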