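import Groth.Agent.S10350
import Groth.Agent.S10215
import Groth.Agent.AlgSp.K605.ImmMain
import Groth.Agent.AlgSp.K616.DimInv
import Groth.Agent.Dual2.K367.ResTrdeg
import Groth.Agent.IsoNat.K862.FRep
import Groth.Prelude.Def_EssDim
import Groth.Prelude.Def_StCurv2

/-!
# Field-valued points of algebraic spaces over a field: descent to a field of small transcendence degree
-/

set_option autoImplicit false
set_option backward.isDefEq.respectTransparency false
set_option backward.isDefEq.respectTransparency.types false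

universe u

open CategoryTheory CategoryTheory.Limits AlgebraicGeometry Opposite AlgSp

namespace K86.EssDimPt

/-- The residual transcendence degree of `Spec K ⟶ Spec k` is the transcendence degree. -/
theorem resTrdeg_Spec (k K : Type u) [Field k] [Field K] (φ : k →+* K) (y : Spec (CommRingCat.of K)) :
    Dual3.resTrdeg (Spec.map (CommRingCat.ofHom φ)) y =
      (letI := φ.toAlgebra; Algebra.trdeg k K) := by
  let _ := φ.toAlgebra
  have hlies : y.asIdeal.LiesOver (y.asIdeal.under k) := ⟨rfl⟩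
  refine (K367.ResTrdeg.resTrdeg_Spec_map k K y).trans ?_
  have h1 : ∀ (F : Type u) [Field F] (x : F), ∃ a b : F, RingHom.id F b ≠ 0 ∧ x = RingHom.id F a / RingHom.id F b :=
    fun F _ x => ⟨x, 1, by simp, by simp⟩
  have hy : y.asIdeal = ⊥ := by
    have := y.isPrime
    exact (Ideal.eq_bot_or_top y.asIdeal).resolve_right this.ne_top
  exact (Groth.Agent.CycB.TrdegFrac.trdeg_quotient k K k K (RingHom.id k) (RingHom.id K) φ rfl (h1 k) (h1 K)
    (y.asIdeal.under k) y.asIdeal
    (by rw [hy, Ideal.under_bot]; exact (RingHom.injective_iff_ker_eq_bot _).mp (RingHom.id k).injective |>.symm)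
    (by rw [hy]; exact (RingHom.injective_iff_ker_eq_bot _).mp (RingHom.id K).injective |>.symm)).symm

theorem resTrdeg_univInj {X Y : Scheme.{u}} (h : X ⟶ Y) [UniversallyInjective h] (x : X) :
    Dual3.resTrdeg h x = 0 := by
  have h0 : UniversallyInjective h ↔
      (Function.Injective h ∧ ∀ x, (h.residueFieldMap x).hom.IsPurelyInseparable) :=
    (tfae_universallyInjective h).out 0 2
  have h1 := (h0.mp inferInstance).2 x
  let _ := (h.residueFieldMap x).hom.toAlgebra
  have h2 : IsPurelyInseparable (Y.residueField (h x)) (X.residueField x) := h1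
  have h3 : Algebra.IsAlgebraic (Y.residueField (h x)) (X.residueField x) := inferInstance
  exact trdeg_eq_zero (R := Y.residueField (h x)) (A := X.residueField x)

/-- `Spec κ(u) ⟶ U` has residual transcendence degree `0`. -/
theorem resTrdeg_fromSpec {U : Scheme.{u}} (u : U) (y : Spec (U.residueField u)) :
    Dual3.resTrdeg (U.fromSpecResidueField u) y = 0 := resTrdeg_univInj _ _

theorem resTrdeg_le_of_factor {P Q X Y : Scheme.{u}} (c : P ⟶ Q) (ρ : Q ⟶ Y) (i : P ⟶ X)
    (f : X ⟶ Y) (e : c ≫ ρ = i ≫ f) (z : P) (x : X) (hx : i z = x) (y : Q) (hy : c z = y)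
    (hi : Dual3.resTrdeg i z = 0) :
    Dual3.resTrdeg ρ y ≤ Dual3.resTrdeg f x := by
  subst hx hy
  have h1 := K616.DimInv.resTrdeg_comp c ρ z
  have h2 := K616.DimInv.resTrdeg_comp i f z
  rw [hi, add_zero] at h2
  rw [← h2, ← e, h1]
  exact le_self_add

variable {k : Type u} [Field k]

open EssDim in
/-- **Descent of field-valued points.** -/
theorem exists_descent {L : Type u} [Field L] [Algebra k L] (K : IntermediateField k L) (d : ℕ)
    (W : AlgSp.Space (Spec (CommRingCat.of k)))
    (π : W.obj ⟶ (AlgSp.yon _).obj (SGA7.pt (K := k) K))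
    (h1 : AlgSp.LocP @LocallyOfFiniteType π) (h2 : AlgSp.IsQuasiSeparatedMor π)
    (h3 : CurvSt.RelDimLE d π) (w : W.obj.obj.obj (op (SGA7.pt (K := k) L)))
    (hw : π.hom.app _ w = ⟨resPt K.val⟩) :
    ∃ (K' : IntermediateField k L) (w' : W.obj.obj.obj (op (SGA7.pt (K := k) K'))),
      W.obj.obj.map (resPt K'.val).op w' = w ∧
      Cardinal.toENat (Algebra.trdeg k K') ≤ Cardinal.toENat (Algebra.trdeg k K) + d := by
  have hqsK : IsQuasiSeparatedSp ((AlgSp.yon (Spec (CommRingCat.of k))).obj (SGA7.pt (K := k) K)) := by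
    unfold IsQuasiSeparatedSp
    rw [repWith_diag_yon_iff]
    have : IsSeparated (SGA7.pt (K := k) K).hom :=
      inferInstanceAs (IsSeparated (Spec.map _))
    infer_instance
  have hqs := K605.ImmMain.isQuasiSeparatedSp_of_mor h2 hqsK
  have hdec := Groth.Agent.S10350.result W hqs
  let p : FieldPt W.obj := ⟨L, (SGA7.pt (K := k) L).hom, w⟩
  obtain ⟨q, hq, hmono, -⟩ := hdec (Points.mk p)
  obtain ⟨c, hc, -⟩ := Groth.Agent.S10215.result W q p hq
  obtain ⟨U, V, a, b, h, x, ha, hb, hcomm, hofPt, hdim⟩ := h3 (Points.mk p)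
  obtain ⟨c', hc', -⟩ := Groth.Agent.S10215.result W q (FieldPt.ofPt a x) (hq.trans hofPt.symm)
  -- the map `Spec q.K ⟶ Spec K`
  obtain ⟨ρ, hρ⟩ : ∃ ρ : q.pt ⟶ SGA7.pt (K := k) K, (yon _).map ρ = q.toHom ≫ π :=
    (yon _).map_surjective _
  obtain ⟨β, hβ⟩ : ∃ β : V ⟶ SGA7.pt (K := k) K, (yon _).map β = b :=
    (yon _).map_surjective _
  have hβe : Etale β.left := by
    rw [← hβ, repWith_yon_map_iff] at hb
    exact hb
  have hh : LocallyOfFiniteType h.left := h1 a b h ha hb hcomm
  -- compatibilities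
  have e1 : c' ≫ ρ = Over.homMk (U.left.fromSpecResidueField x) rfl ≫ h ≫ β := by
    apply (yon _).map_injective
    rw [Functor.map_comp, hρ, reassoc_of% hc', FieldPt.toHom_ofPt, Functor.map_comp, Functor.map_comp,
      hβ, ← hcomm, Category.assoc]
  have e2 : c ≫ ρ = resPt K.val := by
    apply (yon _).map_injective
    rw [Functor.map_comp, hρ, reassoc_of% hc]
    rw [← FieldPt.toHom_map]
    apply (J _).uliftYonedaEquiv.injective
    rw [FieldPt.uliftYonedaEquiv_toHom, GrothendieckTopology.uliftYonedaEquiv_uliftYoneda_map]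
    exact hw
  have hval : W.obj.obj.map c.op q.val = w := by
    have h1 : q.toHom.hom.app (op p.pt) ⟨c⟩ = p.toHom.hom.app (op p.pt) ⟨𝟙 p.pt⟩ := by
      rw [← hc]
      change q.toHom.hom.app (op p.pt) ⟨c⟩ = q.toHom.hom.app (op p.pt) ⟨𝟙 p.pt ≫ c⟩
      rw [Category.id_comp]
    rw [FieldPt.toHom_app, FieldPt.toHom_app] at h1
    rw [h1, op_id, Functor.map_id_apply]
  -- transcendence degrees
  have hx0 : (U.left.fromSpecResidueField x) (IsLocalRing.closedPoint (U.left.residueField x)) = x :=
    Scheme.fromSpecResidueField_apply _ _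
  let y : ↥q.pt.left := IsLocalRing.closedPoint q.K
  have t1 : Dual3.resTrdeg ρ.left y ≤ Dual3.resTrdeg h.left x := by
    have e3 : c'.left ≫ ρ.left = U.left.fromSpecResidueField x ≫ h.left ≫ β.left :=
      congrArg CommaMorphism.left e1
    have t2 := resTrdeg_le_of_factor c'.left ρ.left (U.left.fromSpecResidueField x)
      (h.left ≫ β.left) e3 (IsLocalRing.closedPoint (U.left.residueField x)) x hx0
      y (Subsingleton.elim (α := PrimeSpectrum q.K) _ _) (resTrdeg_fromSpec _ _)
    rw [K616.DimInv.resTrdeg_comp h.left β.left, K616.DimInv.resTrdeg_of_etale β.left, zero_add] at t2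
    exact t2
  have t3 : Cardinal.toENat (Dual3.resTrdeg h.left x) ≤ d := by
    have t4 : FlatMor.fibreDimAt h.left x ≤ (d : WithBot ℕ∞) := hdim
    rw [K616.DimInv.fibreDimAt_eq_add] at t4
    have t5 : (0 : WithBot ℕ∞) ≤ ringKrullDim ((h.left.fiber (h.left x)).presheaf.stalk (h.left.asFiber x)) :=
      ringKrullDim_nonneg_of_nontrivial
    have t6 := (le_add_of_nonneg_left t5).trans t4
    exact_mod_cast t6
  have t7 : Cardinal.toENat (Dual3.resTrdeg ρ.left y) ≤ d :=
    (Cardinal.toENat.monotone' t1).trans t3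
  have t8 : Dual3.resTrdeg q.str y =
      Dual3.resTrdeg (SGA7.pt (K := k) K).hom (ρ.left y) + Dual3.resTrdeg ρ.left y := by
    have e5 : ρ.left ≫ (SGA7.pt (K := k) K).hom = q.str := Over.w ρ
    rw [← K616.DimInv.resTrdeg_comp, e5]
  obtain ⟨s, hs⟩ : ∃ s : CommRingCat.of k ⟶ CommRingCat.of q.K, Spec.map s = q.str :=
    Spec.map_surjective _
  obtain ⟨γ, hγ⟩ : ∃ γ : CommRingCat.of q.K ⟶ CommRingCat.of L, Spec.map γ = c.left :=
    Spec.map_surjective _
  let _ : Algebra k q.K := s.hom.toAlgebra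
  have hsγ : s ≫ γ = CommRingCat.ofHom (algebraMap k L) := by
    apply Spec.map_injective
    rw [Spec.map_comp, hs, hγ]
    exact Over.w c
  let g : q.K →ₐ[k] L := { γ.hom with
    commutes' := fun r => congrArg (fun f => f.hom r) hsγ }
  have hg : Function.Injective g := g.toRingHom.injective
  let K' : IntermediateField k L := g.fieldRange
  let e : q.K ≃ₐ[k] K' := AlgEquiv.ofInjectiveField g
  let i : SGA7.pt (K := k) K' ⟶ q.pt := Over.homMk (Spec.map (CommRingCat.ofHom (e : q.K →+* K'))) (by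
    change Spec.map _ ≫ q.str = Spec.map _
    rw [← hs, ← Spec.map_comp]
    congr 1
    ext r
    exact congrArg Subtype.val (e.commutes r))
  have hi : resPt K'.val ≫ i = c := by
    ext : 1
    change Spec.map _ ≫ Spec.map _ = _
    rw [← Spec.map_comp, ← hγ]
    rfl
  refine ⟨K', W.obj.obj.map i.op q.val, ?_, ?_⟩
  · rw [← Functor.map_comp_apply, ← op_comp, hi]
    exact hval
  · have t9 : Algebra.trdeg k K' = Dual3.resTrdeg q.str y := by
      have e6 := resTrdeg_Spec k q.K s.hom y
      rw [← AlgEquiv.trdeg_eq e]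
      rw [← hs]
      exact e6.symm
    have t10 : Algebra.trdeg k K = Dual3.resTrdeg (SGA7.pt (K := k) K).hom (ρ.left y) :=
      (resTrdeg_Spec k K (algebraMap k K) (ρ.left y)).symm
    rw [t9, t8, ← t10, map_add]
    gcongr

end K86.EssDimPt
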